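import Mathlib

/-!
# Exterior powers of free modules over a quotient ring
-/

set_option autoImplicit false
universe u

open Module

namespace GrothLib.TorExt3

variable {A : Type u} [CommRing A] (K : Ideal A)

theorem smul_exteriorPower_eq_zero {M : Type u} [AddCommGroup M] [Module A M]
    (hM : ∀ k ∈ K, ∀ x : M, k • x = 0) (i : ℕ) {k : A} (hk : k ∈ K) (y : ⋀[A]^(i + 1) M) : k • y = 0 := by
  have h : (k • LinearMap.id : ⋀[A]^(i + 1) M →ₗ[A] _) = 0 := by
    refine exteriorPower.linearMap_ext ?_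
    ext v
    show ((k • exteriorPower.ιMulti A (i + 1) v : ⋀[A]^(i + 1) M) : ExteriorAlgebra A M) = _
    refine congrArg Subtype.val ?_
    conv_lhs => rw [← Function.update_eq_self 0 v, ← (exteriorPower.ιMulti A (i + 1)).map_update_smul,
      hM k hk (v 0)]
    exact (exteriorPower.ιMulti A (i + 1)).map_update_zero v 0
  exact LinearMap.congr_fun h y

/-- Exterior powers, over the quotient ring, of an alternating map over the ring. -/
noncomputable def restrictAlt {M N : Type u} [AddCommGroup M] [Module A M] [Module (A ⧸ K) M]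
    [IsScalarTower A (A ⧸ K) M] [AddCommGroup N] [Module A N] [Module (A ⧸ K) N] [IsScalarTower A (A ⧸ K) N]
    {n : ℕ} (φ : M [⋀^Fin n]→ₗ[A ⧸ K] N) : M [⋀^Fin n]→ₗ[A] N where
  toMultilinearMap := φ.toMultilinearMap.restrictScalars A
  map_eq_zero_of_eq' v a b h hab := φ.map_eq_zero_of_eq v h hab

theorem nonempty_exteriorPower_equiv (r i : ℕ) :
    Nonempty (⋀[A]^(i + 1) (Fin r → A ⧸ K) ≃ₗ[A] (Fin (r.choose (i + 1)) → A ⧸ K)) := by
  classical
  let Q := A ⧸ K
  let bA := (Pi.basisFun A (Fin r)).exteriorPower (i + 1)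
  let bQ := (Pi.basisFun Q (Fin r)).exteriorPower (i + 1)
  let π : (Fin r → A) →ₗ[A] (Fin r → Q) := LinearMap.pi fun j => (Algebra.linearMap A Q).comp (LinearMap.proj j)
  have hπ : ∀ j, π (Pi.basisFun A (Fin r) j) = Pi.basisFun Q (Fin r) j := fun j => by
    ext t
    by_cases h : t = j
    · subst h; simp [π]
    · simp [π, h]
  have hπs : Function.Surjective π := fun v => by
    choose a ha using fun j => Ideal.Quotient.mk_surjective (v j)
    exact ⟨a, funext ha⟩
  let Φ : ⋀[A]^(i + 1) (Fin r → Q) →ₗ[A] ⋀[Q]^(i + 1) (Fin r → Q) :=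
    exteriorPower.alternatingMapLinearEquiv (restrictAlt K (exteriorPower.ιMulti Q (i + 1)))
  let T : ⋀[A]^(i + 1) (Fin r → A) →ₗ[A] ⋀[A]^(i + 1) (Fin r → Q) := exteriorPower.map (i + 1) π
  have hT : ∀ s, Φ (T (bA s)) = bQ s := fun s => by
    simp only [bA, bQ, exteriorPower.basis_apply, T, exteriorPower.map_apply_ιMulti_family]
    show Φ (exteriorPower.ιMulti A (i + 1) _) = _
    rw [exteriorPower.alternatingMapLinearEquiv_apply_ιMulti]
    show exteriorPower.ιMulti Q (i + 1) _ = exteriorPower.ιMulti Q (i + 1) _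
    congr 1
    funext j
    exact hπ _
  let Ψ : ⋀[A]^(i + 1) (Fin r → Q) →ₗ[A] (Set.powersetCard (Fin r) (i + 1) → Q) :=
    (bQ.equivFun.toLinearMap.restrictScalars A) ∘ₗ Φ
  have hTs : Function.Surjective T := exteriorPower.map_surjective hπs
  have hΨT : ∀ x, Ψ (T x) = fun s => Ideal.Quotient.mk K (bA.equivFun x s) := by
    intro x
    have h : Ψ ∘ₗ T = (LinearMap.pi fun s => (Algebra.linearMap A Q).comp (LinearMap.proj s)) ∘ₗ
        bA.equivFun.toLinearMap := by
      refine bA.ext fun s => ?_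
      funext t
      show bQ.equivFun (Φ (T (bA s))) t = Ideal.Quotient.mk K (bA.equivFun (bA s) t)
      rw [hT, Basis.equivFun_self, Basis.equivFun_self]
      split_ifs <;> simp
    exact LinearMap.congr_fun h x
  have hcard : Fintype.card (Set.powersetCard (Fin r) (i + 1)) = r.choose (i + 1) := by
    rw [← Nat.card_eq_fintype_card, Set.powersetCard.card, Nat.card_fin]
  refine ⟨(LinearEquiv.ofBijective Ψ ⟨?_, ?_⟩).trans
    (LinearEquiv.funCongrLeft A Q (Fintype.equivFinOfCardEq hcard).symm)⟩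
  · rw [injective_iff_map_eq_zero]
    intro y hy
    obtain ⟨x, rfl⟩ := hTs y
    rw [hΨT] at hy
    rw [← bA.sum_equivFun x, map_sum]
    refine Finset.sum_eq_zero fun s _ => ?_
    rw [map_smul]
    exact smul_exteriorPower_eq_zero K (fun k hk v => funext fun j => by
      show k • v j = 0
      rw [Algebra.smul_def]
      show Ideal.Quotient.mk K k * v j = 0
      rw [Ideal.Quotient.eq_zero_iff_mem.2 hk, zero_mul]) i (Ideal.Quotient.eq_zero_iff_mem.1 (congrFun hy s)) _
  · intro q
    choose a ha using fun s => Ideal.Quotient.mk_surjective (q s)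
    refine ⟨T (bA.equivFun.symm a), ?_⟩
    rw [hΨT, LinearEquiv.apply_symm_apply]
    exact funext ha

end GrothLib.TorExt3
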