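import Groth.Agent.Lib.KoszulTensor.Split
import Groth.Agent.Lib.KoszulEuler.TorLen
import Groth.Agent.Lib.SmoothTor3.Lhs
import Groth.Agent.Lib.TorExt3.Ext
import Groth.Prelude.Def_LCI2

/-!
# Tor of two complete intersections with a common part
-/

set_option autoImplicit false
set_option linter.style.haveILetI false
set_option maxHeartbeats 1000000
universe u

open CategoryTheory CategoryTheory.Limits MonoidalCategory HomologicalComplex

attribute [local instance] HasDerivedCategory.standard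

namespace GrothLib.TorExt3

open GrothLib.KoszulTensor GrothLib.KoszulMod

variable {A : Type u} [CommRing A]

/-- Elements annihilating the module may be split off a Koszul complex. -/
theorem nonempty_homology_prepend_of_smul_eq_zero (M : ModuleCat.{u} A) (xs : List A) : ∀ ys : List A,
    (∀ y ∈ ys, ∀ x : M, y • x = 0) → ∀ m : ℤ,
    Nonempty (↥((DRing.tensorCx (Koszul.koszul A (ys ++ xs)) M).homology m) ≃ₗ[A]
      ((p : Idx ys.length) → ↥((DRing.tensorCx (Koszul.koszul A xs) M).homology (m + deg p))))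
  | [], _, m => nonempty_homology_prepend M xs [] (by simp) m
  | y :: ys, hy, m => by
    let F : ModuleCat.{u} A ⥤ ModuleCat.{u} A := tensorRight M
    have h0 : (F.mapHomologicalComplex (ComplexShape.up ℤ)).map (y • 𝟙 (Koszul.koszul A (ys ++ xs))) = 0 := by
      refine HomologicalComplex.hom_ext _ _ fun n => ?_
      show F.map (y • 𝟙 _) = 0
      refine ModuleCat.hom_ext (TensorProduct.ext' fun a b => ?_)
      show TensorProduct.tmul A (y • a) b = 0
      rw [TensorProduct.smul_tmul, hy y List.mem_cons_self b, TensorProduct.tmul_zero]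
    obtain ⟨e⟩ := nonempty_homology_cone _ (Homotopy.ofEq h0) m
    have ih := nonempty_homology_prepend_of_smul_eq_zero M xs ys (fun z hz => hy z (List.mem_cons_of_mem _ hz))
    obtain ⟨e₁⟩ := ih (m + 1)
    obtain ⟨e₂⟩ := ih m
    obtain ⟨P⟩ := nonempty_pascal (fun i => (DRing.tensorCx (Koszul.koszul A xs) M).homology i) ys.length m
    exact ⟨((HomologicalComplex.homologyFunctor _ _ m).mapIso
      (CochainComplex.mappingCone.mapHomologicalComplexIso (y • 𝟙 (Koszul.koszul A (ys ++ xs))) F) ≪≫ e).toLinearEquiv ≪≫ₗ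
      e₁.prodCongr e₂ ≪≫ₗ P⟩

/-- The Koszul complex of a Koszul regular sequence resolves the quotient. -/
theorem exists_quasiIso_of_koszulRegular (l : List A) (hl : LCI.IsKoszulRegularSeq A l) :
    ∃ q : Koszul.koszul A l ⟶
      (single (ModuleCat.{u} A) (ComplexShape.up ℤ) 0).obj (ModuleCat.of A (A ⧸ Ideal.ofList l)), QuasiIso q := by
  obtain ⟨e₄⟩ := GrothLib.KoszulEuler.nonempty_tensor_iso (ModuleCat.of A A) l
  let eK : CohIII.koszulCx (ModuleCat.of A A) l ≅ Koszul.koszul A l :=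
    e₄.symm ≪≫ GrothLib.KF.tensorCxUnitIso (Koszul.koszul A l)
  obtain ⟨π, hπ, hker⟩ := exists_augmentation (ModuleCat.of A A) l
  let K := CohIII.koszulCx (ModuleCat.of A A) l
  let e : (A ⧸ (Ideal.ofList l • (⊤ : Submodule A A))) ≃ₗ[A] A ⧸ Ideal.ofList l :=
    Submodule.quotEquivOfEq _ _ (by rw [Ideal.smul_eq_mul, Ideal.mul_top])
  let g : K.X 0 →ₗ[A] A ⧸ Ideal.ofList l := e.toLinearMap ∘ₗ π
  have hg : ∀ x, g ((K.d (0 - 1) 0).hom x) = 0 := fun x => by
    show e (π _) = 0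
    rw [LinearEquiv.map_eq_zero_iff, ← LinearMap.mem_ker, hker, show (-1 : ℤ) = 0 - 1 by norm_num]
    exact LinearMap.mem_range_self _ x
  suffices h : QuasiIso (GrothLib.DR.toSingleMap K 0 g hg) from
    ⟨eK.inv ≫ GrothLib.DR.toSingleMap K 0 g hg, inferInstance⟩
  refine ⟨fun j => ?_⟩
  rw [quasiIsoAt_iff_isIso_homologyMap]
  by_cases hj : j = 0
  · subst hj
    haveI : Mono (homologyMap (GrothLib.DR.toSingleMap K 0 g hg) 0) := by
      rw [ModuleCat.mono_iff_injective, injective_iff_map_eq_zero]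
      intro z hz
      obtain ⟨c, rfl⟩ := (ModuleCat.epi_iff_surjective (K.homologyπ 0)).1 inferInstance z
      rw [GrothLib.DR.toSingleMap_homology_iff, show g (K.iCycles 0 c) = e (π (K.iCycles 0 c)) from rfl,
        LinearEquiv.map_eq_zero_iff, ← LinearMap.mem_ker, hker] at hz
      obtain ⟨w, hw⟩ := hz
      have h2 : (K.toCycles (-1) 0).hom w = c := (ModuleCat.mono_iff_injective (K.iCycles 0)).1 inferInstance
        ((ConcreteCategory.congr_hom (K.toCycles_i (-1) 0) w).trans hw)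
      rw [← h2]
      exact ConcreteCategory.congr_hom (K.toCycles_comp_homologyπ (-1) 0) w
    haveI : Epi (homologyMap (GrothLib.DR.toSingleMap K 0 g hg) 0) := by
      rw [ModuleCat.epi_iff_surjective]
      intro z
      let S := (single (ModuleCat.{u} A) (ComplexShape.up ℤ) 0).obj (ModuleCat.of A (A ⧸ Ideal.ofList l))
      obtain ⟨s, rfl⟩ := (ModuleCat.epi_iff_surjective (S.homologyπ 0)).1 inferInstance z
      obtain ⟨t, ht⟩ : ∃ t, (singleObjXSelf (ComplexShape.up ℤ) 0 (ModuleCat.of A (A ⧸ Ideal.ofList l))).inv t =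
          S.iCycles 0 s := ⟨(singleObjXSelf (ComplexShape.up ℤ) 0 (ModuleCat.of A (A ⧸ Ideal.ofList l))).hom (S.iCycles 0 s),
            Iso.hom_inv_id_apply _ _⟩
      obtain ⟨x, hx⟩ := (e.surjective.comp hπ) t
      obtain ⟨c, hc⟩ := GrothLib.DR.exists_cycle K 0 x
        (GrothLib.KoszulMod.eq_zero_out _ _ _ (Or.inl (by norm_num)) _)
      refine ⟨K.homologyπ 0 c, ?_⟩
      refine (ConcreteCategory.congr_hom (homologyπ_naturality (GrothLib.DR.toSingleMap K 0 g hg) 0) c).trans ?_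
      refine congrArg (S.homologyπ 0) ((ModuleCat.mono_iff_injective (S.iCycles 0)).1 inferInstance ?_)
      refine (ConcreteCategory.congr_hom (cyclesMap_i (GrothLib.DR.toSingleMap K 0 g hg) 0) c).trans ?_
      show (GrothLib.DR.toSingleMap K 0 g hg).f 0 (K.iCycles 0 c) = _
      rw [hc, ← ht, GrothLib.DR.toSingleMap, mkHomToSingle_f]
      show _ = _
      rw [← hx]
      rfl
    exact isIso_of_mono_of_epi _
  · exact ⟨0, ((hl j hj).of_iso ((homologyFunctor _ _ j).mapIso eK)).eq_of_src _ _,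
      ((exactAt_iff_isZero_homology _ _).1 (exactAt_single_obj _ _ _ _ hj)).eq_of_src _ _⟩

theorem nonempty_koszul_perm (f g h : List A) :
    Nonempty (Koszul.koszul A (g ++ (f ++ h)) ≅ Koszul.koszul A (f ++ g ++ h)) := by
  obtain ⟨e₁⟩ := nonempty_iso A h (g ++ f)
  obtain ⟨e₂⟩ := nonempty_iso A h (f ++ g)
  obtain ⟨s⟩ := nonempty_swap g f
  exact ⟨eqToIso (by rw [List.append_assoc]) ≪≫ e₁.symm ≪≫ MonoidalCategory.whiskerRightIso s _ ≪≫ e₂⟩

theorem nonempty_tor_pi (f g h : List A) (hfg : LCI.IsKoszulRegularSeq A (f ++ g))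
    (hfh : LCI.IsKoszulRegularSeq A (f ++ h)) (hfgh : LCI.IsKoszulRegularSeq A (f ++ g ++ h)) (p : ℕ) :
    Nonempty ((((Tor (ModuleCat.{u} A) (p + 1)).obj (ModuleCat.of A (A ⧸ Ideal.ofList (f ++ g)))).obj
        (ModuleCat.of A (A ⧸ Ideal.ofList (f ++ h)))) ≅
      ModuleCat.of A (Fin (f.length.choose (p + 1)) → A ⧸ Ideal.ofList (f ++ g ++ h))) := by
  let N : ModuleCat.{u} A := ModuleCat.of A (A ⧸ Ideal.ofList (f ++ h))
  obtain ⟨q, hq⟩ := exists_quasiIso_of_koszulRegular (f ++ g) hfg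
  obtain ⟨q', hq'⟩ := exists_quasiIso_of_koszulRegular (f ++ h) hfh
  obtain ⟨q'', hq''⟩ := exists_quasiIso_of_koszulRegular (f ++ g ++ h) hfgh
  let P := projectiveResolution N
  obtain ⟨e₁⟩ := GrothLib.KoszulEuler.nonempty_tor_iso (A ⧸ Ideal.ofList (f ++ g)) P p
  obtain ⟨e₂⟩ := @GrothLib.KoszulEuler.nonempty_tensor_swap _ _ _ _ _ _ q P.π' hq
    (inferInstanceAs (QuasiIso P.π')) (GrothLib.SmoothTor3.isKFlat_koszul (f ++ g))
    (GrothLib.KF.isKFlat_cochainComplex P) (-((p + 1 : ℕ) : ℤ))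
  have hy : ∀ y ∈ f, ∀ x : N, y • x = 0 := by
    intro y hy x
    obtain ⟨a, rfl⟩ := Submodule.Quotient.mk_surjective _ (show A ⧸ Ideal.ofList (f ++ h) from x)
    show Submodule.Quotient.mk (y • a) = 0
    rw [Submodule.Quotient.mk_eq_zero, smul_eq_mul]
    exact Ideal.mul_mem_right _ _ (Ideal.subset_span (List.mem_append_left h hy))
  obtain ⟨e₃⟩ := nonempty_homology_prepend_of_smul_eq_zero N g f hy (-((p + 1 : ℕ) : ℤ))
  obtain ⟨eT⟩ := nonempty_iso A (f ++ h) g
  obtain ⟨eP⟩ := nonempty_koszul_perm f g h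
  haveI : QuasiIso (((GrothLib.KF.tensorCx (R := A)).obj (Koszul.koszul A g)).map q') :=
    GrothLib.KF.quasiIso_tensor_map_of_isKFlat q' _ (GrothLib.SmoothTor3.isKFlat_koszul g)
  let E : ∀ j : ℤ, (DRing.tensorCx (Koszul.koszul A g) N).homology j ≅ (Koszul.koszul A (f ++ g ++ h)).homology j :=
    fun j => (homologyFunctor _ _ j).mapIso (GrothLib.KF.singleIso (Koszul.koszul A g) N) ≪≫
      (isoOfQuasiIsoAt (((GrothLib.KF.tensorCx (R := A)).obj (Koszul.koszul A g)).map q') j).symm ≪≫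
      (homologyFunctor _ _ j).mapIso (eT ≪≫ eP)
  let H : ℤ → ModuleCat.{u} A := fun j => (DRing.tensorCx (Koszul.koszul A g) N).homology j
  have hH : ∀ j : ℤ, j ≠ 0 → Subsingleton (H j) := fun j hj =>
    ModuleCat.subsingleton_of_isZero ((hfgh j hj).of_iso (E j))
  let e₀ : H 0 ≃ₗ[A] A ⧸ Ideal.ofList (f ++ g ++ h) :=
    (E 0 ≪≫ (@isoOfQuasiIsoAt _ _ _ _ _ _ _ q'' 0 _ _ (@QuasiIso.quasiIsoAt _ _ _ _ _ _ _ _ _ _ hq'' 0)) ≪≫
      HomologicalComplex.singleObjHomologySelfIso (ComplexShape.up ℤ) 0 _).toLinearEquiv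
  let P₀ := {x : Idx f.length // deg x = p + 1}
  have hcard : Nat.card P₀ = f.length.choose (p + 1) := card_deg _ _
  haveI : Finite P₀ := Subtype.finite
  let m : ℤ := -((p + 1 : ℕ) : ℤ)
  let c : ((x : Idx f.length) → H (m + deg x)) ≃ₗ[A] (P₀ → A ⧸ Ideal.ofList (f ++ g ++ h)) :=
    { toFun := fun v x => e₀ (castN H (show m + (deg x.1 : ℤ) = 0 by simp only [x.2, m]; omega) (v x.1))
      map_add' := fun v w => funext fun x => by simp only [Pi.add_apply, map_add]
      map_smul' := fun a v => funext fun x => by simp only [Pi.smul_apply, map_smul, RingHom.id_apply]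
      invFun := fun w x => if hx : deg x = p + 1 then
          (castN H (show m + (deg x : ℤ) = 0 by simp only [hx, m]; omega)).symm (e₀.symm (w ⟨x, hx⟩))
        else 0
      left_inv := fun v => funext fun x => by
        by_cases hx : deg x = p + 1
        · simp [hx]
        · haveI := hH (m + deg x) (by simp only [m]; omega)
          exact Subsingleton.elim _ _
      right_inv := fun w => funext fun x => by
        simp [x.2] }
  exact ⟨e₁.symm ≪≫ e₂.symm ≪≫
    (e₃ ≪≫ₗ c ≪≫ₗ LinearEquiv.funCongrLeft A _ ((Finite.equivFinOfCardEq hcard).symm)).toModuleIso⟩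

theorem nonempty_tor_iso_exteriorPower (f g h : List A) (hfg : LCI.IsKoszulRegularSeq A (f ++ g))
    (hfh : LCI.IsKoszulRegularSeq A (f ++ h)) (hfgh : LCI.IsKoszulRegularSeq A (f ++ g ++ h)) (p : ℕ) :
    Nonempty ((((Tor (ModuleCat.{u} A) (p + 1)).obj (ModuleCat.of A (A ⧸ Ideal.ofList (f ++ g)))).obj
        (ModuleCat.of A (A ⧸ Ideal.ofList (f ++ h)))) ≅
      ModuleCat.of A (⋀[A]^(p + 1) ((((Tor (ModuleCat.{u} A) 1).obj
        (ModuleCat.of A (A ⧸ Ideal.ofList (f ++ g)))).obj (ModuleCat.of A (A ⧸ Ideal.ofList (f ++ h))))))) := by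
  obtain ⟨e₁⟩ := nonempty_tor_pi f g h hfg hfh hfgh p
  obtain ⟨e₀⟩ := nonempty_tor_pi f g h hfg hfh hfgh 0
  obtain ⟨w⟩ := nonempty_exteriorPower_equiv (Ideal.ofList (f ++ g ++ h)) f.length p
  let d := e₀.toLinearEquiv ≪≫ₗ LinearEquiv.funCongrLeft A _
    (finCongr (show f.length = f.length.choose (0 + 1) by rw [zero_add, Nat.choose_one_right]))
  let wd : ⋀[A]^(p + 1) ((((Tor (ModuleCat.{u} A) 1).obj
        (ModuleCat.of A (A ⧸ Ideal.ofList (f ++ g)))).obj (ModuleCat.of A (A ⧸ Ideal.ofList (f ++ h))))) ≃ₗ[A]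
      ⋀[A]^(p + 1) (Fin f.length → A ⧸ Ideal.ofList (f ++ g ++ h)) :=
    LinearEquiv.ofLinearMap (exteriorPower.map (p + 1) d.toLinearMap) (exteriorPower.map (p + 1) d.symm.toLinearMap)
      (by rw [← exteriorPower.map_comp, LinearEquiv.comp_symm, exteriorPower.map_id])
      (by rw [← exteriorPower.map_comp, LinearEquiv.symm_comp, exteriorPower.map_id])
  exact ⟨e₁ ≪≫ (wd ≪≫ₗ w).symm.toModuleIso⟩

end GrothLib.TorExt3
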